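import Cfsg.Agent.Lib.Blocks.Basic
import Cfsg.Agent.Lib.Char.Linear
import Cfsg.Agent.Lib.Char.Constituent
import Cfsg.Agent.Lib.Char.Perm
import Mathlib.RingTheory.RootsOfUnity.Complex

/-!
# A group of order 6048 with a self-centralizing element of order 7 conjugate to its square

Without linear characters other than the trivial one such a group has an irreducible character
of degree divisible by `6`: the column at the element of order 7 has squared norm `7` and is
orthogonal to the degrees, and with the sum of the squares of the degrees modulo `49` this leaves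
no room for degrees prime to `6`.
-/

set_option autoImplicit false

open scoped Classical ComplexConjugate

namespace CfsgLib.Char.U33Graph

open Cfsg

/-- A primitive seventh root of unity. -/
noncomputable def ζ : ℂ := Complex.exp (2 * Real.pi * Complex.I / 7)

theorem ζ_prim : IsPrimitiveRoot ζ 7 := by
  have h := Complex.isPrimitiveRoot_exp 7 (by norm_num)
  norm_num at h
  exact h

/-- The additive character of `ZMod 7`. -/
noncomputable def ex (a : ZMod 7) : ℂ := ζ ^ a.val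

theorem ex_add (a b : ZMod 7) : ex (a + b) = ex a * ex b := by
  rw [ex, ex, ex, ← pow_add, ZMod.val_add]
  exact (pow_eq_pow_mod (a.val + b.val) ζ_prim.pow_eq_one).symm

theorem ex_natCast (i : ℕ) : ex (i : ZMod 7) = ζ ^ i := by
  rw [ex, ZMod.val_natCast]
  exact (pow_eq_pow_mod i ζ_prim.pow_eq_one).symm

theorem ex_zero : ex 0 = 1 := by simp [ex]

theorem conj_ex (a : ZMod 7) : conj (ex a) = ex (-a) := by
  have h1 : ex a * ex (-a) = 1 := by rw [← ex_add, add_neg_cancel, ex_zero]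
  have h2 : conj (ex a) * ex a = 1 := by
    rw [mul_comm, Complex.mul_conj, Complex.normSq_eq_norm_sq, ex, norm_pow,
      ζ_prim.norm'_eq_one (by norm_num)]
    norm_num
  calc conj (ex a) = conj (ex a) * (ex a * ex (-a)) := by rw [h1, mul_one]
    _ = ex (-a) := by rw [← mul_assoc, h2, one_mul]

theorem sum_univ7 {A : Type*} [AddCommMonoid A] (f : ZMod 7 → A) :
    ∑ i : ZMod 7, f i = f 0 + f 1 + f 2 + f 3 + f 4 + f 5 + f 6 :=
  Fin.sum_univ_seven f

theorem sum_ex : ∑ i : ZMod 7, ex i = 0 := by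
  have h := ζ_prim.geom_sum_eq_zero (by norm_num : 1 < 7)
  simp only [Finset.sum_range_succ, Finset.sum_range_zero, zero_add] at h
  rw [sum_univ7]
  exact h

theorem sum_ex_mul (a : ZMod 7) : ∑ i : ZMod 7, ex (a * i) = if a = 0 then 7 else 0 := by
  haveI : Fact (Nat.Prime 7) := ⟨by norm_num⟩
  split_ifs with h
  · subst h; simp [ex_zero]
  · rw [← sum_ex]
    exact Fintype.sum_equiv (Equiv.mulLeft₀ a h) _ _ fun i => rfl

theorem two_ne : (2 : ZMod 7) ≠ 0 := by decide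

/-- `η - η̄`. -/
noncomputable def δ : ℂ := ex 1 + ex 2 + ex 4 - (ex 3 + ex 5 + ex 6)

theorem conj_δ : conj δ = -δ := by
  simp only [δ, map_sub, map_add, conj_ex]
  rw [show (-1 : ZMod 7) = 6 from by decide, show (-2 : ZMod 7) = 5 from by decide,
    show (-4 : ZMod 7) = 3 from by decide, show (-3 : ZMod 7) = 4 from by decide,
    show (-5 : ZMod 7) = 2 from by decide, show (-6 : ZMod 7) = 1 from by decide]
  ring

theorem δ_sq : δ * δ = -7 := by
  have h0 := sum_ex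
  rw [sum_univ7, ex_zero] at h0
  have h7 := ζ_prim.pow_eq_one
  simp only [δ, show (1 : ZMod 7) = ((1 : ℕ) : ZMod 7) from rfl, show (2 : ZMod 7) = ((2 : ℕ) : ZMod 7) from rfl,
    show (3 : ZMod 7) = ((3 : ℕ) : ZMod 7) from rfl, show (4 : ZMod 7) = ((4 : ℕ) : ZMod 7) from rfl,
    show (5 : ZMod 7) = ((5 : ℕ) : ZMod 7) from rfl, show (6 : ZMod 7) = ((6 : ℕ) : ZMod 7) from rfl,
    ex_natCast] at h0 ⊢
  linear_combination h0 + (ζ ^ 5 + 2 * ζ ^ 4 - ζ ^ 3 + ζ - 6) * h7

theorem δ_ne : δ ≠ 0 := fun h => by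
  have := δ_sq
  rw [h, mul_zero] at this
  norm_num at this

universe u

variable {G : Type u} [Group G] [Fintype G] {y : G}

theorem exists_mult (hy : orderOf y = 7) (χ : IrrCharacter G) :
    ∃ m : ZMod 7 → ℕ, ∀ j : ℕ, (χ : G → ℂ) (y ^ j) = ∑ i : ZMod 7, (m i : ℂ) * ex (i * (j : ZMod 7)) := by
  set Y := Subgroup.zpowers y
  set y' : Y := ⟨y, Subgroup.mem_zpowers y⟩
  have hcom : ∀ a b : Y, a * b = b * a := fun a b => by
    obtain ⟨i, hi⟩ := Subgroup.mem_zpowers_iff.1 a.2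
    obtain ⟨j, hj⟩ := Subgroup.mem_zpowers_iff.1 b.2
    exact Subtype.ext (by simp only [Subgroup.coe_mul, ← hi, ← hj, ← zpow_add, add_comm])
  obtain ⟨n, -, hexp⟩ := Char.IsCharacter.exists_multiplicity (Char.IsCharacter.restrict (isCharacter_irr χ) Y)
  have hv : ∀ μ : IrrCharacter Y, ∃ i : ZMod 7, ∀ j : ℕ, (μ : Y → ℂ) (y' ^ j) = ex (i * (j : ZMod 7)) := fun μ => by
    obtain ⟨f, hf⟩ := exists_hom_of_apply_one_eq_one (isCharacter_irr μ) (apply_one_eq_one_of_comm hcom μ.2)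
    have h7 : ((f y' : ℂˣ) : ℂ) ^ 7 = 1 := by
      have h1 : y' ^ 7 = 1 := Subtype.ext (hy ▸ pow_orderOf_eq_one y : y ^ 7 = 1)
      rw [← Units.val_pow_eq_pow_val, ← map_pow, h1, map_one, Units.val_one]
    obtain ⟨i, -, hi⟩ := ζ_prim.eq_pow_of_pow_eq_one h7
    refine ⟨(i : ZMod 7), fun j => ?_⟩
    rw [← Nat.cast_mul, ex_natCast, pow_mul, hi, hf]
    simp only [map_pow, Units.val_pow_eq_pow_val]
  choose c hc using hv
  refine ⟨fun i => ∑ μ ∈ Finset.univ.filter (fun μ => c μ = i), n μ, fun j => ?_⟩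
  have h := hexp (y' ^ j)
  rw [show ((y' ^ j : Y) : G) = y ^ j from rfl] at h
  rw [h, ← Finset.sum_fiberwise Finset.univ c]
  refine Finset.sum_congr rfl fun i _ => ?_
  rw [Nat.cast_sum, Finset.sum_mul]
  refine Finset.sum_congr rfl fun μ hμ => ?_
  rw [hc, (Finset.mem_filter.1 hμ).2]

/-- The value at `y` is `(s + d δ) / 2` with `s ≡ d` modulo `2` and `s ≡ 2χ(1)` modulo `7`. -/
theorem exists_value (hy : orderOf y = 7) (hc : IsConj y (y ^ 2)) (χ : IrrCharacter G) :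
    ∃ s d : ℤ, 2 * (χ : G → ℂ) y = (s : ℂ) + (d : ℂ) * δ ∧ (2 : ℤ) ∣ s - d ∧
      (7 : ℤ) ∣ 2 * (charDegree (χ : G → ℂ) : ℤ) - s := by
  obtain ⟨m, hm⟩ := exists_mult hy χ
  set Y : ZMod 7 → ℂ := fun j => (χ : G → ℂ) (y ^ j.val) with hY
  have hYe : ∀ j, Y j = ∑ i : ZMod 7, (m i : ℂ) * ex (i * j) := fun j => by
    rw [hY]
    simp only [hm, ZMod.natCast_zmod_val]
  have hinv : ∀ i, (7 : ℂ) * (m i : ℂ) = ∑ j, Y j * ex (-i * j) := fun i => by
    simp only [hYe, Finset.sum_mul, mul_assoc, ← ex_add]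
    rw [Finset.sum_comm]
    simp only [← Finset.mul_sum, ← add_mul, sum_ex_mul, ← sub_eq_add_neg, sub_eq_zero, mul_ite, mul_zero,
      Finset.sum_ite_eq', Finset.mem_univ, if_true]
    ring
  have hY2 : ∀ j, Y (2 * j) = Y j := fun j => by
    obtain ⟨u, hu⟩ := isConj_iff.1 hc
    have h1 : y ^ (2 * j).val = y ^ (2 * j.val) := by
      rw [pow_eq_pow_iff_modEq, hy, ZMod.val_mul]
      exact Nat.mod_modEq _ _
    show (χ : G → ℂ) (y ^ (2 * j).val) = (χ : G → ℂ) (y ^ j.val)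
    rw [h1, pow_mul, ← hu, conj_pow, Blocks.irr_conj_apply]
  have hm2 : ∀ i, m (2 * i) = m i := fun i => by
    haveI : Fact (Nat.Prime 7) := ⟨by norm_num⟩
    apply Nat.cast_injective (R := ℂ)
    apply mul_left_cancel₀ (show (7 : ℂ) ≠ 0 by norm_num)
    rw [hinv, hinv]
    refine Fintype.sum_equiv (Equiv.mulLeft₀ (2 : ZMod 7) two_ne) _ _ fun j => ?_
    show Y j * ex (-(2 * i) * j) = Y (2 * j) * ex (-i * (2 * j))
    rw [hY2, show -i * (2 * j) = -(2 * i) * j by ring]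
  have h2 : m 2 = m 1 := (by decide : (2 : ZMod 7) = 2 * 1) ▸ hm2 1
  have h4 : m 4 = m 1 := ((by decide : (4 : ZMod 7) = 2 * 2) ▸ hm2 2 : m 4 = m 2).trans h2
  have h6 : m 6 = m 3 := (by decide : (6 : ZMod 7) = 2 * 3) ▸ hm2 3
  have h5 : m 5 = m 3 := ((by decide : (5 : ZMod 7) = 2 * 6) ▸ hm2 6 : m 5 = m 6).trans h6
  have hdeg : charDegree (χ : G → ℂ) = m 0 + 3 * m 1 + 3 * m 3 := by
    have h := hm 0
    rw [pow_zero, Blocks.irr_one_eq, Nat.cast_zero, sum_univ7] at h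
    simp only [mul_zero, ex_zero, mul_one, h2, h4, h5, h6] at h
    apply Nat.cast_injective (R := ℂ)
    push_cast
    linear_combination h
  refine ⟨2 * (m 0 : ℤ) - (m 1 : ℤ) - (m 3 : ℤ), (m 1 : ℤ) - (m 3 : ℤ), ?_, ⟨(m 0 : ℤ) - (m 1 : ℤ), by ring⟩,
    ⟨(m 1 : ℤ) + (m 3 : ℤ), by rw [hdeg]; push_cast; ring⟩⟩
  have h := hm 1
  rw [pow_one, Nat.cast_one, sum_univ7] at h
  simp only [mul_one, ex_zero, h2, h4, h5, h6] at h
  have h0 := sum_ex
  rw [sum_univ7, ex_zero] at h0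
  simp only [δ]
  push_cast
  linear_combination 2 * h + ((m 1 : ℂ) + (m 3 : ℂ)) * h0

/-- The attainable sums of cost, weighted degree and squared degree modulo `49`. -/
def reach : List (ℕ × ℤ × ℕ) := [(0, 0, 0), (4, -54, 43), (4, 16, 15), (8, -108, 37), (8, -38, 9), (8, 32, 30),
  (12, -162, 31), (12, -92, 3), (12, -22, 24), (12, 48, 45), (16, -216, 25), (16, -146, 46), (16, -76, 18),
  (16, -6, 18), (16, -6, 39), (16, 8, 4), (16, 8, 32), (16, 36, 32), (16, 64, 11), (16, 64, 39), (20, -270, 19),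
  (20, -200, 40), (20, -130, 12), (20, -60, 12), (20, -60, 33), (20, -46, 26), (20, -46, 47), (20, -18, 26),
  (20, 10, 5), (20, 10, 33), (20, 24, 19), (20, 24, 47), (20, 52, 47), (20, 80, 5), (20, 80, 26), (24, -324, 13),
  (24, -254, 34), (24, -184, 6), (24, -114, 6), (24, -114, 27), (24, -100, 20), (24, -100, 41), (24, -72, 20),
  (24, -44, 27), (24, -44, 48), (24, -30, 13), (24, -30, 41), (24, -2, 41), (24, 26, 20), (24, 26, 48), (24, 40, 13),
  (24, 40, 34), (24, 68, 13), (24, 96, 20), (24, 96, 41)]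

/-- The atoms. -/
def atoms : List (ℕ × ℤ × ℕ) :=
  [(4, -54, 43), (4, 16, 15), (16, -6, 18), (16, 8, 4), (16, 8, 32), (16, 36, 32), (16, 64, 11), (16, 64, 39)]

theorem reach_closed : ∀ r ∈ reach, ∀ a ∈ atoms, r.1 + a.1 ≤ 24 →
    (r.1 + a.1, r.2.1 + a.2.1, (r.2.2 + a.2.2) % 49) ∈ reach := by decide +kernel

theorem reach_final : ∀ r ∈ reach, r.1 = 24 → r.2.1 = -2 → r.2.2 ≠ 20 := by decide +kernel

theorem mem_atoms : ∀ D : Fin 78, ∀ s' : Fin 9, ∀ e : Fin 2, (2 ≤ D.val ∧ D.val ∣ 6048 ∧ ¬ 6 ∣ D.val ∧ ¬ 7 ∣ D.val ∧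
    (2 : ℤ) ∣ ((s'.val : ℤ) - 4) - e.val ∧ (7 : ℤ) ∣ 2 * (D.val : ℤ) - ((s'.val : ℤ) - 4) ∧
    ((s'.val : ℤ) - 4 ≠ 0 ∨ e.val ≠ 0) ∧
    ((((s'.val : ℤ) - 4) ^ 2 + 7 * (e.val : ℤ) ^ 2).toNat * (1 + e.val) ≤ 24)) →
    ((((s'.val : ℤ) - 4) ^ 2 + 7 * (e.val : ℤ) ^ 2).toNat * (1 + e.val),
      (1 + (e.val : ℤ)) * ((s'.val : ℤ) - 4) * D.val, ((1 + e.val) * D.val ^ 2) % 49) ∈ atoms := by
  decide +kernel

/-- Sums of atoms of cost at most `24` are attainable. -/
theorem mem_reach {ι : Type*} (c : ι → ℕ) (a : ι → ℤ) (q : ι → ℕ) :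
    ∀ T : Finset ι, (∀ i ∈ T, (c i, a i, q i % 49) ∈ atoms) → ∑ i ∈ T, c i ≤ 24 →
      (∑ i ∈ T, c i, ∑ i ∈ T, a i, (∑ i ∈ T, q i) % 49) ∈ reach := by
  intro T
  induction T using Finset.induction_on with
  | empty => intro _ _; simp only [Finset.sum_empty]; decide
  | insert i T hi ih =>
    intro hT hle
    rw [Finset.sum_insert hi] at hle
    have h := reach_closed _ (ih (fun j hj => hT j (Finset.mem_insert_of_mem hj)) (by omega))
      _ (hT i (Finset.mem_insert_self i T)) (by simp only; omega)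
    simp only [← Nat.add_mod] at h
    rw [Finset.sum_insert hi, Finset.sum_insert hi, Finset.sum_insert hi, add_comm (c i), add_comm (a i), add_comm (q i)]
    exact h

theorem exists_six_dvd (hG : Nat.card G = 6048) (hy : orderOf y = 7)
    (hC : Nat.card (Subgroup.centralizer ({y} : Set G)) = 7) (hc : IsConj y (y ^ 2))
    (hlin : ∀ χ : IrrCharacter G, charDegree (χ : G → ℂ) = 1 → χ = Blocks.trivChar G) :
    ∃ χ : IrrCharacter G, 6 ∣ charDegree (χ : G → ℂ) := by
  by_contra hno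
  push Not at hno
  choose s d hsd h2 h7 using exists_value hy hc
  set D : IrrCharacter G → ℕ := fun χ => charDegree (χ : G → ℂ) with hD
  set τ := Blocks.trivChar G
  have hτD : D τ = 1 := by simp [hD, charDegree, τ, Blocks.trivChar_apply]
  -- uniqueness of the coordinates
  have huniq : ∀ a b a' b' : ℤ, (a : ℂ) + (b : ℂ) * δ = (a' : ℂ) + (b' : ℂ) * δ → a = a' ∧ b = b' := by
    intro a b a' b' h
    have hc' := congrArg conj h
    simp only [map_add, map_mul, map_intCast, conj_δ] at hc'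
    have e1 : ((2 * a : ℤ) : ℂ) = ((2 * a' : ℤ) : ℂ) := by push_cast; linear_combination h + hc'
    have e2 : (b : ℂ) * δ = (b' : ℂ) * δ := by linear_combination (h - hc') / 2
    exact ⟨by have := Int.cast_injective e1; omega, Int.cast_injective (mul_right_cancel₀ δ_ne e2)⟩
  obtain ⟨hsτ, hdτ⟩ : s τ = 2 ∧ d τ = 0 := huniq _ _ 2 0 (by
    rw [← hsd τ, Blocks.trivChar_apply]; push_cast; ring)
  -- complex conjugation
  set κ : IrrCharacter G → IrrCharacter G := fun χ => ⟨fun g => conj ((χ : G → ℂ) g), Char.IsIrrCharacter.conj' χ.2⟩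
    with hκ
  have hκκ : ∀ χ, κ (κ χ) = χ := fun χ => Subtype.ext (funext fun g => Complex.conj_conj _)
  have hκD : ∀ χ, D (κ χ) = D χ := fun χ => by simp [hD, hκ, charDegree]
  have hκsd : ∀ χ, s (κ χ) = s χ ∧ d (κ χ) = -d χ := fun χ => huniq _ _ _ _ (by
    rw [← hsd (κ χ)]
    show 2 * conj ((χ : G → ℂ) y) = _
    have h := congrArg conj (hsd χ)
    simp only [map_add, map_mul, map_intCast, map_ofNat, conj_δ] at h
    rw [h]; push_cast; ring)
  -- the column
  have hN : ∑ χ : IrrCharacter G, (s χ ^ 2 + 7 * d χ ^ 2) = 28 := by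
    have h := sum_irr_mul_conj y y
    rw [if_pos (IsConj.refl y), hC] at h
    apply Int.cast_injective (α := ℂ)
    push_cast
    calc _ = ∑ χ : IrrCharacter G, 4 * ((χ : G → ℂ) y * conj ((χ : G → ℂ) y)) :=
          Finset.sum_congr rfl fun χ _ => by
            have hv := hsd χ
            have hvc := congrArg conj hv
            simp only [map_add, map_mul, map_intCast, map_ofNat, conj_δ] at hvc
            linear_combination -2 * conj ((χ : G → ℂ) y) * hv - ((s χ : ℂ) + (d χ : ℂ) * δ) * hvc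
              + (d χ : ℂ) ^ 2 * δ_sq
      _ = 28 := by rw [← Finset.mul_sum, h]; norm_num
  have hy1 : ¬ IsConj (1 : G) y := fun h => by
    rw [isConj_one_right] at h
    rw [h, orderOf_one] at hy
    norm_num at hy
  have hO : ∑ χ : IrrCharacter G, (D χ : ℤ) * s χ = 0 := by
    have h := sum_irr_mul_conj (1 : G) y
    rw [if_neg hy1] at h
    have h' := congrArg conj h
    rw [map_sum, map_zero] at h'
    apply Int.cast_injective (α := ℂ)
    push_cast
    calc _ = ∑ χ : IrrCharacter G, ((χ : G → ℂ) 1 * conj ((χ : G → ℂ) y)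
          + conj ((χ : G → ℂ) 1 * conj ((χ : G → ℂ) y))) := Finset.sum_congr rfl fun χ _ => by
            have hv := hsd χ
            have hvc := congrArg conj hv
            simp only [map_add, map_mul, map_intCast, map_ofNat, conj_δ] at hvc
            simp only [Blocks.irr_one_eq, map_mul, map_natCast, Complex.conj_conj, hD]
            linear_combination -((charDegree (χ : G → ℂ) : ℂ) / 2) * (hv + hvc)
      _ = 0 := by rw [Finset.sum_add_distrib, h, h', add_zero]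
  have hS : ∑ χ : IrrCharacter G, D χ ^ 2 = 6048 := by
    have h := sum_irr_mul_conj (1 : G) 1
    rw [if_pos (IsConj.refl _), Subgroup.centralizer_eq_top_iff_subset.2 (by simp), Subgroup.card_top, hG] at h
    apply Nat.cast_injective (R := ℂ)
    push_cast
    rw [show ((6048 : ℕ) : ℂ) = 6048 from by norm_num] at h
    rw [← h]
    exact Finset.sum_congr rfl fun χ _ => by rw [Blocks.irr_one_eq, map_natCast]; ring
  -- bounds
  have hne1 : ∀ χ, χ ≠ τ → 2 ≤ D χ := fun χ hχ => by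
    have h0 := Blocks.charDegree_pos χ
    have h1 : D χ ≠ 1 := fun h => hχ (hlin χ h)
    simp only [hD] at h1 ⊢
    omega
  have hcost : ∀ χ, χ ≠ τ → s χ ^ 2 + 7 * d χ ^ 2 + (if d χ = 0 then 0 else s χ ^ 2 + 7 * d χ ^ 2) ≤ 24 := fun χ hχ => by
    have hsub : ∑ ψ ∈ ({τ, χ, κ χ} : Finset (IrrCharacter G)), (s ψ ^ 2 + 7 * d ψ ^ 2) ≤ 28 :=
      hN ▸ Finset.sum_le_sum_of_subset_of_nonneg (Finset.subset_univ _) fun ψ _ _ => by positivity
    have hτκ : τ ≠ κ χ := fun h => hχ (by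
      rw [← hκκ χ, ← h]
      exact Subtype.ext (funext fun g => by simp [hκ, τ, Blocks.trivChar_apply]))
    split_ifs with hd
    · have hsub' : ∑ ψ ∈ ({τ, χ} : Finset (IrrCharacter G)), (s ψ ^ 2 + 7 * d ψ ^ 2) ≤ 28 :=
        hN ▸ Finset.sum_le_sum_of_subset_of_nonneg (Finset.subset_univ _) fun ψ _ _ => by positivity
      rw [Finset.sum_pair hχ.symm, hsτ, hdτ] at hsub'
      linarith
    · have hκne : χ ≠ κ χ := fun h => hd (by
        have := (hκsd χ).2
        rw [← h] at this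
        omega)
      rw [Finset.sum_insert (by simp [hχ.symm, hτκ]), Finset.sum_pair hκne, hsτ, hdτ, (hκsd χ).1, (hκsd χ).2,
        neg_sq] at hsub
      linarith
  have hd1 : ∀ χ, χ ≠ τ → -1 ≤ d χ ∧ d χ ≤ 1 ∧ -4 ≤ s χ ∧ s χ ≤ 4 := fun χ hχ => by
    have h := hcost χ hχ
    have hs0 := sq_nonneg (s χ)
    have hd0 := sq_nonneg (d χ)
    refine ⟨?_, ?_, ?_, ?_⟩
    · by_contra hh
      rw [if_neg (by omega)] at h
      nlinarith
    · by_contra hh
      rw [if_neg (by omega)] at h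
      nlinarith
    · split_ifs at h <;> nlinarith
    · split_ifs at h <;> nlinarith
  -- the atoms
  set U := Finset.univ.erase τ with hU
  set T := U.filter (fun χ => 0 ≤ d χ ∧ (s χ ≠ 0 ∨ d χ ≠ 0)) with hT
  let w : IrrCharacter G → ℕ := fun χ => if d χ = 0 then 1 else 2
  let c : IrrCharacter G → ℕ := fun χ => (s χ ^ 2 + 7 * d χ ^ 2).toNat * w χ
  let a : IrrCharacter G → ℤ := fun χ => (w χ : ℤ) * s χ * D χ
  let q : IrrCharacter G → ℕ := fun χ => w χ * D χ ^ 2
  have hatom : ∀ χ ∈ T, (c χ, a χ, q χ % 49) ∈ atoms := fun χ hχ => by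
    obtain ⟨hχU, hd0, hnz⟩ := Finset.mem_filter.1 hχ
    have hne := (Finset.mem_erase.1 hχU).1
    obtain ⟨-, b1, b2, b3⟩ := hd1 χ hne
    have hsq : D χ ^ 2 ≤ 6048 :=
      hS ▸ Finset.single_le_sum (f := fun χ => D χ ^ 2) (fun _ _ => Nat.zero_le _) (Finset.mem_univ χ)
    have hD78 : D χ < 78 := by nlinarith
    have h7D : ¬ 7 ∣ D χ := fun h7' => by
      have e : (7 : ℤ) ∣ s χ := by
        have h := h7 χ
        have h' : (7 : ℤ) ∣ 2 * (D χ : ℤ) := dvd_mul_of_dvd_right (Int.natCast_dvd_natCast.2 h7') _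
        exact (dvd_sub_right h').1 h
      have := h2 χ
      omega
    have hw : w χ = 1 + (d χ).toNat := by
      simp only [w]; split_ifs <;> omega
    have hmem := mem_atoms ⟨D χ, hD78⟩ ⟨(s χ + 4).toNat, by omega⟩ ⟨(d χ).toNat, by omega⟩
    simp only at hmem
    rw [show (((s χ + 4).toNat : ℕ) : ℤ) - 4 = s χ by omega, show (((d χ).toNat : ℕ) : ℤ) = d χ by omega] at hmem
    have hD6 : D χ ∣ 6048 := hG ▸ Blocks.charDegree_dvd χ
    have hcle : (s χ ^ 2 + 7 * d χ ^ 2).toNat * (1 + (d χ).toNat) ≤ 24 := by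
      have h := hcost χ hne
      by_cases h0 : d χ = 0
      · rw [if_pos h0] at h
        rw [h0] at h ⊢
        simp only [Int.toNat_zero, add_zero, mul_one]
        omega
      · rw [if_neg h0] at h
        rw [show (d χ).toNat = 1 by omega]
        omega
    have h := hmem ⟨hne1 χ hne, hD6, hno χ, h7D, h2 χ, h7 χ, hnz.imp_right (fun h => by omega), hcle⟩
    simp only [c, a, q, hw]
    push_cast
    rw [show (((d χ).toNat : ℕ) : ℤ) = d χ by omega]
    exact h
  -- folding by complex conjugation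
  have hfold : ∀ f : IrrCharacter G → ℤ, (∀ χ, f (κ χ) = f χ) →
      ∑ χ ∈ U, f χ = ∑ χ ∈ U.filter (fun χ => s χ = 0 ∧ d χ = 0), f χ + ∑ χ ∈ T, (w χ : ℤ) * f χ := by
    intro f hf
    have hneg : ∑ χ ∈ U.filter (fun χ => d χ < 0), f χ = ∑ χ ∈ U.filter (fun χ => 0 < d χ), f χ := by
      refine Finset.sum_nbij' κ κ (fun χ hχ => ?_) (fun χ hχ => ?_) (fun χ _ => hκκ χ) (fun χ _ => hκκ χ)
        (fun χ _ => (hf χ).symm)
      all_goals
        simp only [hU, Finset.coe_filter, Set.mem_ofPred_eq, Finset.mem_filter, Finset.mem_erase, Finset.mem_univ,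
          and_true] at hχ ⊢
        refine ⟨fun h => hχ.1 ?_, by rw [(hκsd χ).2]; omega⟩
        rw [← hκκ χ, h]
        exact Subtype.ext (funext fun g => by simp [hκ, τ, Blocks.trivChar_apply])
    simp only [hT, Finset.sum_filter] at hneg ⊢
    rw [← Finset.sum_add_distrib]
    have e : ∀ χ, f χ = ((if s χ = 0 ∧ d χ = 0 then f χ else 0)
        + if 0 ≤ d χ ∧ (s χ ≠ 0 ∨ d χ ≠ 0) then (w χ : ℤ) * f χ else 0)
        + ((if d χ < 0 then f χ else 0) - if 0 < d χ then f χ else 0) := fun χ => by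
      simp only [w]
      split_ifs <;> first | omega | (push_cast; ring)
    rw [Finset.sum_congr rfl fun χ _ => e χ, Finset.sum_add_distrib, Finset.sum_sub_distrib, hneg, sub_self, add_zero]
  have hsplit : ∀ f : IrrCharacter G → ℤ, ∑ χ, f χ = f τ + ∑ χ ∈ U, f χ := fun f =>
    (Finset.add_sum_erase _ f (Finset.mem_univ τ)).symm
  have hc24 : ∑ χ ∈ T, c χ = 24 := by
    have h := (hsplit _).symm.trans hN
    rw [hfold _ (fun χ => by rw [(hκsd χ).1, (hκsd χ).2, neg_sq]), hsτ, hdτ,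
      Finset.sum_eq_zero (s := U.filter _) (fun χ hχ => by simp [(Finset.mem_filter.1 hχ).2.1, (Finset.mem_filter.1 hχ).2.2])] at h
    have e : ((∑ χ ∈ T, c χ : ℕ) : ℤ) = ∑ χ ∈ T, (w χ : ℤ) * (s χ ^ 2 + 7 * d χ ^ 2) := by
      push_cast [c]
      exact Finset.sum_congr rfl fun χ _ => by rw [Int.toNat_of_nonneg (by positivity), mul_comm]
    omega
  have ha2 : ∑ χ ∈ T, a χ = -2 := by
    have h := (hsplit _).symm.trans hO
    rw [hfold _ (fun χ => by rw [hκD, (hκsd χ).1]), hτD, hsτ,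
      Finset.sum_eq_zero (s := U.filter _) (fun χ hχ => by simp [(Finset.mem_filter.1 hχ).2.1])] at h
    rw [Finset.sum_congr rfl fun χ _ => show a χ = (w χ : ℤ) * ((D χ : ℤ) * s χ) by simp only [a]; ring]
    push_cast at h
    omega
  have hq : (∑ χ ∈ T, q χ) % 49 = 20 := by
    have hS' : ∑ χ : IrrCharacter G, (D χ : ℤ) ^ 2 = 6048 := by exact_mod_cast hS
    have h := (hsplit _).symm.trans hS'
    rw [hfold _ (fun χ => by rw [hκD]), hτD] at h
    have h49 : (49 : ℤ) ∣ ∑ χ ∈ U.filter (fun χ => s χ = 0 ∧ d χ = 0), (D χ : ℤ) ^ 2 :=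
      Finset.dvd_sum fun χ hχ => by
        have h := h7 χ
        rw [(Finset.mem_filter.1 hχ).2.1, sub_zero] at h
        have h' : (7 : ℤ) ∣ (D χ : ℤ) := by simp only [hD]; omega
        rw [show (49 : ℤ) = 7 ^ 2 from rfl]
        exact pow_dvd_pow_of_dvd h' 2
    obtain ⟨r, hr⟩ := h49
    have e : ((∑ χ ∈ T, q χ : ℕ) : ℤ) = ∑ χ ∈ T, (w χ : ℤ) * (D χ : ℤ) ^ 2 := by push_cast [q]; rfl
    rw [hr] at h
    push_cast at h
    omega
  have h := reach_final _ (mem_reach c a q T hatom hc24.le)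
  exact h hc24 ha2 hq

end CfsgLib.Char.U33Graph
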