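import Cfsg.Agent.Lib.Char.U33Graph.Data
import Cfsg.Agent.Lib.Chevalley.G2Two.USide
import Cfsg.Agent.Lib.Char.Basic
import Cfsg.Prelude.Def_DegreeGraph

/-!
# Two constituents of the permutation character of U₃(3) on 63 points

The orthogonality graph on the non-isotropic points is distance regular with point stabilizer
transitive on every distance class.  The eigenspaces for `3` and `-3` afford irreducible
representations; their dimensions, the traces of the projections, are `21` and `14`.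
-/

set_option autoImplicit false
set_option maxRecDepth 10000

open scoped Classical

namespace CfsgLib.Char.U33Graph

open Chevalley.G2Two Chevalley.G2Two.F9 Matrix Module

/-- The image of a point under a root element, from the table. -/
def rimg (r : Fin 12) (i : Fin 63) : Fin 63 := Fin.ofNat 63 ((img.getD r.val []).getD i.val 0)

theorem rimg_check : ∀ (r : Fin 12) (i : Fin 63),
    uLam (rootMat r *ᵥ uv i) ≠ 0 ∧ ∀ k, (rootMat r *ᵥ uv i) k = uLam (rootMat r *ᵥ uv i) * uv (rimg r i) k := by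
  decide +kernel

theorem phi_rootU (r : Fin 12) (i : Fin 63) : phi (rootU r) i = rimg r i :=
  actFun_eq (rimg_check r i).1 (funext (rimg_check r i).2)

/-- The effect of a word on a point. -/
def ev : List (Fin 12) → Fin 63 → Fin 63
  | [], i => i
  | r :: l, i => rimg r (ev l i)

theorem phi_prod (l : List (Fin 12)) (i : Fin 63) : phi (l.map rootU).prod i = ev l i := by
  induction l with
  | nil => simp [ev]
  | cons r l ih => rw [List.map_cons, List.prod_cons, map_mul, Equiv.Perm.mul_apply, ih, phi_rootU]; rfl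

/-- The word carrying `0` to `i`. -/
def move (i : Fin 63) : List (Fin 12) := (moveT.getD i.val []).map (Fin.ofNat 12)

theorem move_check : ∀ i : Fin 63, ev (move i) 0 = i := by decide +kernel

theorem exists_move (i : Fin 63) : ∃ g : U3, phi g 0 = i :=
  ⟨((move i).map rootU).prod, (phi_prod _ _).trans (move_check i)⟩

/-- The orthogonal points. -/
def nbs (i : Fin 63) : List (Fin 63) := (nbT.getD i.val []).map (Fin.ofNat 63)

theorem nbs_check : ∀ i j : Fin 63, decide (j ∈ nbs i) =
    decide (uv i 0 * conj (uv j 0) + uv i 1 * conj (uv j 1) + uv i 2 * conj (uv j 2) = 0) := by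
  decide +kernel

theorem mem_nbs {i j : Fin 63} : j ∈ nbs i ↔ Cfsg.hermForm 3 F9 3 (uv i) (uv j) = 0 := by
  have h := nbs_check i j
  rw [decide_eq_decide] at h
  rw [h]
  simp only [Cfsg.hermForm, Fin.sum_univ_three, ← conj_eq, pow_succ, pow_zero, one_mul]

theorem mem_nbs_phi (g : U3) (i j : Fin 63) : phi g j ∈ nbs (phi g i) ↔ j ∈ nbs i := by
  obtain ⟨c, hc, e⟩ := (exists_image g i).choose_spec
  obtain ⟨d, hd, e'⟩ := (exists_image g j).choose_spec
  have hg : Cfsg.hermForm 3 F9 3 (Cfsg.slToMat 3 F9 g.1 *ᵥ uv i) (Cfsg.slToMat 3 F9 g.1 *ᵥ uv j) =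
      Cfsg.hermForm 3 F9 3 (uv i) (uv j) := g.2 _ _
  rw [e, e'] at hg
  have hs : Cfsg.hermForm 3 F9 3 (c • uv (phi g i)) (d • uv (phi g j)) =
      c * d ^ 3 * Cfsg.hermForm 3 F9 3 (uv (phi g i)) (uv (phi g j)) := by
    simp only [Cfsg.hermForm, Pi.smul_apply, smul_eq_mul, Finset.mul_sum]
    exact Finset.sum_congr rfl fun k _ => by ring
  rw [show ((exists_image g i).choose) = phi g i from rfl, show ((exists_image g j).choose) = phi g j from rfl,
    hs] at hg
  rw [mem_nbs, mem_nbs, ← hg, mul_eq_zero]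
  exact ⟨Or.inr, fun h => h.resolve_left (mul_ne_zero hc (pow_ne_zero 3 hd))⟩

/-- The distance in the orthogonality graph. -/
def dist (i j : Fin 63) : Fin 4 :=
  if i = j then 0 else if j ∈ nbs i then 1 else if ∃ l ∈ nbs i, j ∈ nbs l then 2 else 3

theorem dist_phi (g : U3) (i j : Fin 63) : dist (phi g i) (phi g j) = dist i j := by
  have h : (∃ l ∈ nbs (phi g i), phi g j ∈ nbs l) ↔ ∃ l ∈ nbs i, j ∈ nbs l := by
    constructor
    · rintro ⟨l, h1, h2⟩
      refine ⟨(phi g).symm l, ?_, ?_⟩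
      · rw [← mem_nbs_phi g, Equiv.apply_symm_apply]; exact h1
      · rw [← mem_nbs_phi g, Equiv.apply_symm_apply]; exact h2
    · rintro ⟨l, h1, h2⟩
      exact ⟨phi g l, (mem_nbs_phi g _ _).2 h1, (mem_nbs_phi g _ _).2 h2⟩
  simp only [dist, EmbeddingLike.apply_eq_iff_eq, mem_nbs_phi, h]

theorem nbs_facts : ∀ i : Fin 63, (nbs i).Nodup ∧ ∀ j ∈ nbs i, i ∈ nbs j := by decide +kernel

/-- The class of a point relative to `0`. -/
def cls (i : Fin 63) : Fin 4 := dist 0 i

theorem dist_self (i : Fin 63) : dist i i = 0 := if_pos rfl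

/-- Representatives of the four classes. -/
def rep : Fin 4 → Fin 63 := ![0, 2, 3, 1]

/-- The two generators fixing `0`. -/
def sgen : ℕ → Fin 12 := fun k => if k = 0 then 4 else 7

/-- The stabilizer word carrying a representative to `i`. -/
def smove (i : Fin 63) : List (Fin 12) := (stabT.getD i.val []).map sgen

theorem smove_check : ∀ i : Fin 63, ev (smove i) (rep (cls i)) = i := by decide +kernel

theorem sgen_check : rimg 4 0 = 0 ∧ rimg 7 0 = 0 := by decide +kernel

/-- The subgroup generated by the two elements fixing `0`. -/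
noncomputable def stab : Subgroup U3 := Subgroup.closure {rootU 4, rootU 7}

theorem stab_fix {s : U3} (hs : s ∈ stab) : phi s 0 = 0 := by
  induction hs using Subgroup.closure_induction with
  | mem x hx =>
    rcases hx with rfl | rfl
    · exact (phi_rootU 4 0).trans sgen_check.1
    · exact (phi_rootU 7 0).trans sgen_check.2
  | one => rw [map_one, Equiv.Perm.one_apply]
  | mul a b _ _ ha hb => rw [map_mul, Equiv.Perm.mul_apply, hb, ha]
  | inv a _ ha => rw [map_inv, Equiv.Perm.inv_eq_iff_eq, ha]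

theorem smove_mem (i : Fin 63) : ((smove i).map rootU).prod ∈ stab := by
  refine Subgroup.list_prod_mem _ fun x hx => ?_
  simp only [smove, List.map_map, List.mem_map, Function.comp_apply] at hx
  obtain ⟨a, -, rfl⟩ := hx
  refine Subgroup.subset_closure ?_
  unfold sgen
  split_ifs
  · exact Set.mem_insert _ _
  · exact Set.mem_insert_of_mem _ (Set.mem_singleton _)

/-- The permutation representation. -/
noncomputable def perm : Representation ℂ U3 (Fin 63 → ℂ) where
  toFun g := LinearMap.funLeft ℂ ℂ (phi g⁻¹)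
  map_one' := by ext f i; simp [LinearMap.funLeft]
  map_mul' g h := by ext f i; simp [LinearMap.funLeft, _root_.mul_inv_rev]

theorem perm_apply (g : U3) (f : Fin 63 → ℂ) (i : Fin 63) : perm g f i = f (phi g⁻¹ i) := rfl

/-- The adjacency map. -/
noncomputable def adj : (Fin 63 → ℂ) →ₗ[ℂ] (Fin 63 → ℂ) where
  toFun f i := ∑ j ∈ (nbs i).toFinset, f j
  map_add' f g := by ext i; simp [Finset.sum_add_distrib]
  map_smul' c f := by ext i; simp [Finset.mul_sum]

theorem adj_apply (f : Fin 63 → ℂ) (i : Fin 63) : adj f i = ∑ j ∈ (nbs i).toFinset, f j := rfl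

theorem adj_perm (g : U3) (f : Fin 63 → ℂ) : adj (perm g f) = perm g (adj f) := by
  ext i
  rw [perm_apply, adj_apply, adj_apply]
  refine Finset.sum_equiv (phi g⁻¹) (fun j => ?_) fun j _ => rfl
  simp only [List.mem_toFinset, mem_nbs_phi]

/-- The data of an eigenspace: eigenvalue, radial eigenvector, its normalization and a certificate. -/
structure Eig where
  θ : ℤ
  k : Fin 4 → ℤ
  n : ℕ
  w : Fin 4 → ℤ
  hn : n ≠ 0
  hk0 : k 0 = 8
  hrow : ∀ i : Fin 63, ((nbs i).map fun l => k (cls l)).sum = θ * k (cls i)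
  hcert : ∀ i : Fin 63, ((nbs i).map fun l => w (cls l)).sum - θ * w (cls i) =
    3 * (k (cls i) - (n : ℤ) * if i = 0 then 1 else 0)

/-- The data for the eigenvalue `3`. -/
def eigPlus : Eig where
  θ := 3
  k := ![8, 4, 0, -1]
  n := 24
  w := ![12, -2, -1, 0]
  hn := by decide
  hk0 := rfl
  hrow := by decide +kernel
  hcert := by decide +kernel

/-- The data for the eigenvalue `-3`. -/
def eigMinus : Eig where
  θ := -3
  k := ![8, -4, 2, -1]
  n := 36
  w := ![-48, 10, -1, 0]
  hn := by decide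
  hk0 := rfl
  hrow := by decide +kernel
  hcert := by decide +kernel

namespace Eig

variable (E : Eig)

/-- The eigenspace. -/
noncomputable def space : Submodule ℂ (Fin 63 → ℂ) := LinearMap.ker (adj - (E.θ : ℂ) • LinearMap.id)

theorem mem_space {f : Fin 63 → ℂ} : f ∈ E.space ↔ ∀ i, adj f i = (E.θ : ℂ) * f i := by
  rw [space, LinearMap.mem_ker, LinearMap.sub_apply, sub_eq_zero, LinearMap.smul_apply, LinearMap.id_apply]
  exact ⟨fun h i => by rw [h]; rfl, fun h => funext h⟩

/-- The projection. -/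
noncomputable def proj : (Fin 63 → ℂ) →ₗ[ℂ] (Fin 63 → ℂ) where
  toFun f i := (E.n : ℂ)⁻¹ * ∑ j, (E.k (dist i j) : ℂ) * f j
  map_add' f g := by ext i; simp [mul_add, Finset.sum_add_distrib]
  map_smul' c f := by ext i; simp [Finset.mul_sum, mul_left_comm]

/-- The column at a point. -/
noncomputable def col (j : Fin 63) : Fin 63 → ℂ := fun i => (E.k (dist i j) : ℂ)

theorem perm_col (g : U3) (j : Fin 63) : perm g (E.col j) = E.col (phi g j) := by
  ext i
  rw [perm_apply]
  simp only [col]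
  conv_lhs => rw [← dist_phi g]
  congr 2
  rw [map_inv]
  simp

theorem col_zero (i : Fin 63) : E.col 0 i = (E.k (cls i) : ℂ) := by
  have hsymm : ∀ i : Fin 63, dist i 0 = dist 0 i := by decide +kernel
  simp only [col, cls, hsymm]

theorem col_mem (j : Fin 63) : E.col j ∈ E.space := by
  obtain ⟨g, hg⟩ := exists_move j
  rw [mem_space, ← hg, ← E.perm_col g 0]
  intro i
  rw [adj_perm, perm_apply, perm_apply]
  generalize phi g⁻¹ i = x
  rw [adj_apply, E.col_zero, List.sum_toFinset _ (nbs_facts x).1]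
  simp only [E.col_zero]
  have h := congrArg (fun z : ℤ => (z : ℂ)) (E.hrow x)
  simpa [List.map_map, Function.comp_def, map_list_sum (Int.castRingHom ℂ)] using h

theorem proj_mem (f : Fin 63 → ℂ) : E.proj f ∈ E.space := by
  have e : E.proj f = ∑ j, ((E.n : ℂ)⁻¹ * f j) • E.col j := by
    ext i
    simp only [proj, LinearMap.coe_mk, AddHom.coe_mk, Finset.sum_apply, Pi.smul_apply, smul_eq_mul, col,
      Finset.mul_sum]
    exact Finset.sum_congr rfl fun j _ => by ring
  rw [e]
  exact Submodule.sum_mem _ fun j _ => Submodule.smul_mem _ _ (E.col_mem j)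

theorem sum_col {f : Fin 63 → ℂ} (hf : f ∈ E.space) : ∑ j, (E.k (cls j) : ℂ) * f j = (E.n : ℂ) * f 0 := by
  rw [mem_space] at hf
  have hw : ∀ j : Fin 63, ∑ l ∈ (nbs j).toFinset, (E.w (cls l) : ℂ) - (E.θ : ℂ) * (E.w (cls j) : ℂ)
      = 3 * ((E.k (cls j) : ℂ) - (E.n : ℂ) * if j = 0 then 1 else 0) := fun j => by
    rw [List.sum_toFinset _ (nbs_facts j).1]
    have h := congrArg (fun z : ℤ => (z : ℂ)) (E.hcert j)
    simpa [List.map_map, Function.comp_def, map_list_sum (Int.castRingHom ℂ), apply_ite] using h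
  have h0 : ∑ i, (E.w (cls i) : ℂ) * (adj f i - (E.θ : ℂ) * f i) = 0 :=
    Finset.sum_eq_zero fun i _ => by rw [hf i, sub_self, mul_zero]
  have h1 : ∑ i, (E.w (cls i) : ℂ) * adj f i = ∑ j, (∑ i ∈ (nbs j).toFinset, (E.w (cls i) : ℂ)) * f j := by
    simp only [adj_apply, Finset.mul_sum, Finset.sum_mul]
    refine Finset.sum_comm' fun i j => ?_
    simp only [Finset.mem_univ, List.mem_toFinset, true_and, and_true]
    exact ⟨(nbs_facts i).2 j, (nbs_facts j).2 i⟩
  simp only [mul_sub, Finset.sum_sub_distrib] at h0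
  rw [h1, ← Finset.sum_sub_distrib, Finset.sum_congr rfl (g := fun j => 3 * ((E.k (cls j) : ℂ) * f j) -
      3 * (E.n : ℂ) * (if j = 0 then f j else 0)) fun j _ => by
    rw [show (∑ i ∈ (nbs j).toFinset, (E.w (cls i) : ℂ)) * f j - (E.w (cls j) : ℂ) * ((E.θ : ℂ) * f j)
        = (∑ i ∈ (nbs j).toFinset, (E.w (cls i) : ℂ) - (E.θ : ℂ) * (E.w (cls j) : ℂ)) * f j by ring, hw j]
    split_ifs <;> ring] at h0
  rw [Finset.sum_sub_distrib, ← Finset.mul_sum, ← Finset.mul_sum, Finset.sum_ite_eq', if_pos (Finset.mem_univ _)] at h0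
  linear_combination h0 / 3

theorem perm_space (g : U3) {f : Fin 63 → ℂ} (hf : f ∈ E.space) : perm g f ∈ E.space := by
  rw [mem_space] at hf ⊢
  intro i
  rw [adj_perm, perm_apply, perm_apply, hf]

theorem proj_fix {f : Fin 63 → ℂ} (hf : f ∈ E.space) : E.proj f = f := by
  ext i
  obtain ⟨g, hg⟩ := exists_move i
  show (E.n : ℂ)⁻¹ * ∑ j, (E.k (dist i j) : ℂ) * f j = f i
  have hsum : ∑ j, (E.k (dist i j) : ℂ) * f j = (E.n : ℂ) * f i := by
    have h := E.sum_col (E.perm_space g⁻¹ hf)
    simp only [perm_apply, inv_inv, hg] at h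
    rw [← h]
    refine (Fintype.sum_equiv (phi g) _ _ fun j => ?_).symm
    rw [← hg, dist_phi, cls]
  rw [hsum, inv_mul_cancel_left₀ (Nat.cast_ne_zero.2 E.hn)]

theorem isProj : LinearMap.IsProj E.space E.proj :=
  ⟨E.proj_mem, fun _ hf => E.proj_fix hf⟩

theorem finrank_space : (finrank ℂ E.space : ℂ) = 63 * 8 / (E.n : ℂ) := by
  rw [← LinearMap.IsProj.trace E.isProj, LinearMap.trace_eq_matrix_trace ℂ (Pi.basisFun ℂ (Fin 63)),
    Matrix.trace]
  simp only [Matrix.diag_apply, LinearMap.toMatrix_apply, Pi.basisFun_apply, Pi.basisFun_repr, proj,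
    LinearMap.coe_mk, AddHom.coe_mk, Pi.single_apply, mul_ite, mul_one, mul_zero, Finset.sum_ite_eq',
    Finset.mem_univ, if_true, dist_self, E.hk0, Finset.sum_const, Finset.card_univ, Fintype.card_fin]
  rw [nsmul_eq_mul]
  push_cast
  field_simp

/-- The subrepresentation on the eigenspace. -/
noncomputable def sub : Subrepresentation perm := ⟨E.space, fun g _ hv => E.perm_space g hv⟩

theorem le_of_ne_zero (σ : Submodule ℂ (Fin 63 → ℂ)) (hσ : ∀ g, ∀ v ∈ σ, perm g v ∈ σ) (hle : σ ≤ E.space)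
    (hne : σ ≠ ⊥) : E.space ≤ σ := by
  haveI : Finite U3 := inferInstance
  haveI : Fintype stab := Fintype.ofFinite _
  obtain ⟨v, hv, hv0⟩ := σ.exists_mem_ne_zero_of_ne_bot hne
  obtain ⟨i, hi⟩ := Function.ne_iff.1 hv0
  obtain ⟨g, hg⟩ := exists_move i
  set u := perm g⁻¹ v with hu
  have hu0 : u 0 ≠ 0 := by rw [hu, perm_apply, inv_inv, hg]; exact hi
  have huσ : u ∈ σ := hσ _ _ hv
  set a := ∑ s : stab, perm (s : U3) u with ha
  have haσ : a ∈ σ := Submodule.sum_mem _ fun s _ => hσ _ _ huσ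
  have ha0 : a 0 = (Fintype.card stab : ℂ) * u 0 := by
    rw [ha, Finset.sum_apply, Finset.sum_congr rfl fun (s : stab) _ => show perm (s : U3) u 0 = u 0 by
      rw [perm_apply, stab_fix (stab.inv_mem s.2)], Finset.sum_const, Finset.card_univ, nsmul_eq_mul]
  have hinv : ∀ t ∈ stab, perm t a = a := fun t ht => by
    rw [ha, map_sum]
    refine Fintype.sum_equiv (Equiv.mulLeft ⟨t, ht⟩) _ _ fun s => ?_
    rw [Equiv.coe_mulLeft, Subgroup.coe_mul, map_mul]
    rfl
  have hrad : ∀ j, a j = a (rep (cls j)) := fun j => by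
    conv_lhs => rw [← hinv _ (smove_mem j), perm_apply]
    congr 1
    rw [map_inv, Equiv.Perm.inv_eq_iff_eq]
    exact (((phi_prod _ _).trans (smove_check j))).symm
  have heig := (E.mem_space).1 (hle haσ)
  have hrow : ∀ c : Fin 4, ((nbs (rep c)).map fun l => a (rep (cls l))).sum = (E.θ : ℂ) * a (rep c) := fun c => by
    rw [← heig (rep c), adj_apply, List.sum_toFinset _ (nbs_facts (rep c)).1]
    congr 1
    exact List.map_congr_left fun l _ => (hrad l).symm
  have hint : ∀ c : Fin 4, ((nbs (rep c)).map fun l => (E.k (cls l) : ℂ)).sum = (E.θ : ℂ) * (E.k c : ℂ) := fun c => by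
    have hc : ∀ c : Fin 4, cls (rep c) = c := by decide +kernel
    have h := congrArg (fun z : ℤ => (z : ℂ)) (E.hrow (rep c))
    simpa [hc, List.map_map, Function.comp_def, map_list_sum (Int.castRingHom ℂ)] using h
  have hB : (nbs (rep 0)).map cls = [1, 1, 1, 1, 1, 1] ∧ ((nbs (rep 1)).map cls).Perm [0, 1, 2, 2, 2, 2] ∧
      ((nbs (rep 2)).map cls).Perm [1, 2, 3, 3, 3, 3] := by decide +kernel
  have hsum : ∀ (F : Fin 4 → ℂ) (c : Fin 4) (l : List (Fin 4)), ((nbs (rep c)).map cls).Perm l →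
      ((nbs (rep c)).map fun x => F (cls x)).sum = (l.map F).sum := fun F c l h => by
    rw [show ((nbs (rep c)).map fun x => F (cls x)) = ((nbs (rep c)).map cls).map F by rw [List.map_map]; rfl]
    exact (h.map F).sum_eq
  set F : Fin 4 → ℂ := fun c => a (rep c)
  set K : Fin 4 → ℂ := fun c => (E.k c : ℂ) with hK
  have e0 := (hsum F 0 _ (List.Perm.of_eq hB.1)).symm.trans (hrow 0)
  have e1 := (hsum F 1 _ hB.2.1).symm.trans (hrow 1)
  have e2 := (hsum F 2 _ hB.2.2).symm.trans (hrow 2)
  have f0 := (hsum K 0 _ (List.Perm.of_eq hB.1)).symm.trans (hint 0)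
  have f1 := (hsum K 1 _ hB.2.1).symm.trans (hint 1)
  have f2 := (hsum K 2 _ hB.2.2).symm.trans (hint 2)
  have hK0 : K 0 = 8 := by rw [hK]; simp [E.hk0]
  simp only [List.map_cons, List.map_nil, List.sum_cons, List.sum_nil] at e0 e1 e2 f0 f1 f2
  simp only [F, K] at e0 e1 e2 f0 f1 f2 hK0
  have g1 : 8 * a (rep 1) = a (rep 0) * (E.k 1 : ℂ) := by
    linear_combination (8 / 6 : ℂ) * e0 - (a (rep 0) / 6) * f0
      - ((E.θ : ℂ) * a (rep 0) / 6) * hK0
  have g2 : 8 * a (rep 2) = a (rep 0) * (E.k 2 : ℂ) := by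
    linear_combination (8 / 4 : ℂ) * e1 - (a (rep 0) / 4) * f1 + (((E.θ : ℂ) - 1) / 4) * g1
      + (a (rep 0) / 4) * hK0
  have g3 : 8 * a (rep 3) = a (rep 0) * (E.k 3 : ℂ) := by
    linear_combination (8 / 4 : ℂ) * e2 - (a (rep 0) / 4) * f2 + (((E.θ : ℂ) - 1) / 4) * g2
      - (1 / 4 : ℂ) * g1
  have hcol : E.col 0 = (8 / a 0) • a := by
    ext j
    have haz : a 0 ≠ 0 := by rw [ha0]; exact mul_ne_zero (Nat.cast_ne_zero.2 Fintype.card_ne_zero) hu0
    rw [E.col_zero, Pi.smul_apply, smul_eq_mul, hrad j, div_mul_eq_mul_div, eq_div_iff haz, eq_comm, mul_comm]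
    have hr0 : rep 0 = 0 := rfl
    generalize cls j = c
    fin_cases c
    · simp only [Fin.zero_eta, hr0, E.hk0]; push_cast; ring
    · simpa [hr0, mul_comm] using g1
    · simpa [hr0, mul_comm] using g2
    · simpa [hr0, mul_comm] using g3
  have hcolσ : ∀ j, E.col j ∈ σ := fun j => by
    obtain ⟨g, hg⟩ := exists_move j
    rw [← hg, ← E.perm_col g 0, hcol]
    exact hσ _ _ (σ.smul_mem _ haσ)
  intro f hf
  rw [← E.proj_fix hf]
  have e : E.proj f = ∑ j, ((E.n : ℂ)⁻¹ * f j) • E.col j := by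
    ext i
    simp only [proj, LinearMap.coe_mk, AddHom.coe_mk, Finset.sum_apply, Pi.smul_apply, smul_eq_mul, col,
      Finset.mul_sum]
    exact Finset.sum_congr rfl fun j _ => by ring
  rw [e]
  exact Submodule.sum_mem _ fun j _ => σ.smul_mem _ (hcolσ j)

theorem exists_irr {d : ℕ} (hd : 63 * 8 = d * E.n) (hd0 : d ≠ 0) :
    ∃ χ : Cfsg.IrrCharacter U3, Cfsg.charDegree (χ : U3 → ℂ) = d := by
  have hrank : finrank ℂ E.space = d := by
    have h := E.finrank_space
    rw [show (63 * 8 : ℂ) = ((d * E.n : ℕ) : ℂ) by rw [← hd]; norm_num, Nat.cast_mul,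
      mul_div_cancel_right₀ _ (Nat.cast_ne_zero.2 E.hn)] at h
    exact_mod_cast h
  haveI : Nontrivial E.space := Module.nontrivial_of_finrank_pos (R := ℂ) (by omega)
  haveI : Nontrivial E.sub.toSubmodule := (inferInstance : Nontrivial E.space)
  haveI hirr : E.sub.toRepresentation.IsIrreducible := by
    refine { exists_pair_ne := ⟨⊥, ⊤, fun h => ?_⟩, eq_bot_or_eq_top := fun τ => ?_ }
    · exact bot_ne_top (congrArg Subrepresentation.toSubmodule h : (⊥ : Submodule ℂ E.space) = ⊤)
    · by_cases hτ : τ.toSubmodule = ⊥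
      · exact Or.inl (Subrepresentation.toSubmodule_injective hτ)
      · refine Or.inr (Subrepresentation.toSubmodule_injective (eq_top_iff.2 fun x _ => ?_))
        set σ : Submodule ℂ (Fin 63 → ℂ) := τ.toSubmodule.map E.space.subtype with hσdef
        have hle : σ ≤ E.space := Submodule.map_subtype_le _ _
        have hne : σ ≠ ⊥ := fun h => hτ
          (Submodule.map_injective_of_injective E.space.injective_subtype (h.trans (Submodule.map_bot _).symm))
        have hσ : ∀ g, ∀ v ∈ σ, perm g v ∈ σ := by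
          rintro g _ ⟨y, hy, rfl⟩
          exact ⟨_, τ.apply_mem_toSubmodule g hy, rfl⟩
        obtain ⟨y, hy, he⟩ := E.le_of_ne_zero σ hσ hle hne x.2
        rwa [E.space.injective_subtype he] at hy
  refine ⟨⟨E.sub.toRepresentation.character, isIrrCharacter_of_rep _⟩, ?_⟩
  show Nat.floor (E.sub.toRepresentation.character 1).re = d
  rw [Representation.char_one, Complex.natCast_re, Nat.floor_natCast]
  exact hrank

end Eig

theorem exists_deg_twentyone : ∃ χ : Cfsg.IrrCharacter U3, Cfsg.charDegree (χ : U3 → ℂ) = 21 :=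
  eigPlus.exists_irr (by decide) (by decide)

theorem exists_deg_fourteen : ∃ χ : Cfsg.IrrCharacter U3, Cfsg.charDegree (χ : U3 → ℂ) = 14 :=
  eigMinus.exists_irr (by decide) (by decide)

end CfsgLib.Char.U33Graph
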