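import Cfsg.Agent.Lib.Chevalley.G2Two.Iso
import Cfsg.Agent.Lib.Char.U33Graph.Perm
import Cfsg.Agent.Lib.Char.U33Graph.Column

/-!
# The element of order 7 of U₃(3)
-/

set_option autoImplicit false
set_option maxRecDepth 10000

namespace CfsgLib.Char.U33Graph

open Cfsg Chevalley.G2Two Chevalley.G2Two.F9 Matrix

/-- The element of order 7. -/
def elt : U3 := rootU 9 * rootU 0

/-- The element carrying `elt` to its square. -/
def eltW : U3 := rootU 3 * rootU 7 * rootU 2

/-- The matrix of `elt`. -/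
def emat : Matrix (Fin 3) (Fin 3) F9 := rootMat 9 * rootMat 0

/-- The matrix of `eltW`. -/
def wmat : Matrix (Fin 3) (Fin 3) F9 := rootMat 3 * rootMat 7 * rootMat 2

theorem val_elt : (elt.1.1 : Matrix (Fin 3) (Fin 3) F9) = emat := rfl
theorem val_eltW : (eltW.1.1 : Matrix (Fin 3) (Fin 3) F9) = wmat := rfl

theorem val_mul (g h : U3) : ((g * h).1.1 : Matrix (Fin 3) (Fin 3) F9) = g.1.1 * h.1.1 := rfl

theorem val_pow (g : U3) (k : ℕ) : ((g ^ k).1.1 : Matrix (Fin 3) (Fin 3) F9) = g.1.1 ^ k := by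
  induction k with
  | zero => rfl
  | succ k ih => rw [pow_succ, val_mul, ih, pow_succ]

theorem ext_val {g h : U3} (e : (g.1.1 : Matrix (Fin 3) (Fin 3) F9) = h.1.1) : g = h :=
  Subtype.ext (Subtype.ext e)

/-- Powers by recursion. -/
def mpow : ℕ → Matrix (Fin 3) (Fin 3) F9
  | 0 => 1
  | k + 1 => mpow k * emat

theorem mpow_eq (k : ℕ) : mpow k = emat ^ k := by
  induction k with
  | zero => rfl
  | succ k ih => rw [pow_succ, ← ih]; rfl

theorem mpow_facts : (∀ p : Fin 3 × Fin 3, mpow 7 p.1 p.2 = (1 : Matrix (Fin 3) (Fin 3) F9) p.1 p.2) ∧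
    (∃ p : Fin 3 × Fin 3, mpow 1 p.1 p.2 ≠ (1 : Matrix (Fin 3) (Fin 3) F9) p.1 p.2) ∧
    ∀ p : Fin 3 × Fin 3, (wmat * emat) p.1 p.2 = (mpow 2 * wmat) p.1 p.2 := by
  decide +kernel

theorem orderOf_elt : orderOf elt = 7 := by
  haveI : Fact (Nat.Prime 7) := ⟨by norm_num⟩
  refine orderOf_eq_prime (ext_val ?_) fun h => ?_
  · rw [val_pow, val_elt, ← mpow_eq]
    exact Matrix.ext fun a b => mpow_facts.1 (a, b)
  · obtain ⟨⟨a, b⟩, hab⟩ := mpow_facts.2.1
    refine hab ?_
    rw [mpow_eq, pow_one, ← val_elt, h]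
    rfl

theorem isConj_sq : IsConj elt (elt ^ 2) := by
  refine isConj_iff.2 ⟨eltW, ?_⟩
  rw [mul_inv_eq_iff_eq_mul]
  refine ext_val ?_
  rw [val_mul, val_mul, val_pow, val_elt, val_eltW, ← mpow_eq]
  exact Matrix.ext fun a b => mpow_facts.2.2 (a, b)

/-- The inverse of the matrix with columns `e₀, M e₀, M² e₀`. -/
def kinv : Matrix (Fin 3) (Fin 3) F9 := fun i j =>
  ofNat9 ((([[3, 7, 4], [0, 5, 4], [0, 6, 1]] : List (List Nat)).getD i.val []).getD j.val 0)

theorem kinv_mul (a b : Fin 3) : (∑ k : Fin 3, mpow k.val a 0 * kinv k b) = (1 : Matrix (Fin 3) (Fin 3) F9) a b := by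
  have h : ∀ p : Fin 3 × Fin 3, (∑ k : Fin 3, mpow k.val p.1 0 * kinv k p.2)
      = (1 : Matrix (Fin 3) (Fin 3) F9) p.1 p.2 := by decide +kernel
  exact h (a, b)

/-- The matrix determined by its first column among those commuting with `emat`. -/
def cand (v : Fin 3 → F9) : Matrix (Fin 3) (Fin 3) F9 := fun i j => ∑ k : Fin 3, (mpow k.val *ᵥ v) i * kinv k j

theorem cand_check : ∀ a b c : F9,
    ((∑ k : Fin 3, cand ![a, b, c] k 0 * conj (cand ![a, b, c] k 0)) = 1 ∧
      (∀ p : Fin 3 × Fin 3, ∑ k : Fin 3, cand ![a, b, c] k p.1 * conj (cand ![a, b, c] k p.2) = if p.1 = p.2 then 1 else 0) ∧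
      (cand ![a, b, c] 0 0 * cand ![a, b, c] 1 1 * cand ![a, b, c] 2 2
        - cand ![a, b, c] 0 0 * cand ![a, b, c] 1 2 * cand ![a, b, c] 2 1
        - cand ![a, b, c] 0 1 * cand ![a, b, c] 1 0 * cand ![a, b, c] 2 2
        + cand ![a, b, c] 0 1 * cand ![a, b, c] 1 2 * cand ![a, b, c] 2 0
        + cand ![a, b, c] 0 2 * cand ![a, b, c] 1 0 * cand ![a, b, c] 2 1
        - cand ![a, b, c] 0 2 * cand ![a, b, c] 1 1 * cand ![a, b, c] 2 0 = 1)) →
    ∃ n : Fin 7, ∀ p : Fin 3 × Fin 3, cand ![a, b, c] p.1 p.2 = mpow n.val p.1 p.2 := by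
  decide +kernel

theorem centralizer_elt : Subgroup.centralizer ({elt} : Set U3) = Subgroup.zpowers elt := by
  refine le_antisymm (fun g hg => ?_) ?_
  · rw [Subgroup.mem_centralizer_singleton_iff] at hg
    set C : Matrix (Fin 3) (Fin 3) F9 := g.1.1 with hC
    have hcomm : Commute C emat := by
      have h := congrArg (fun x : U3 => (x.1.1 : Matrix (Fin 3) (Fin 3) F9)) hg
      simp only [val_mul, val_elt] at h
      exact h
    have hCk : C = cand fun i => C i 0 := by
      refine Matrix.ext fun i j => ?_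
      have h1 : C i j = ∑ l : Fin 3, C i l * (∑ k : Fin 3, mpow k.val l 0 * kinv k j) := by
        simp only [kinv_mul]
        rw [← Matrix.mul_apply, mul_one]
      rw [h1]
      simp only [Finset.mul_sum, ← mul_assoc]
      rw [Finset.sum_comm]
      simp only [← Finset.sum_mul]
      refine Finset.sum_congr rfl fun k _ => ?_
      congr 1
      have h2 : C * mpow k.val = mpow k.val * C := by rw [mpow_eq]; exact (hcomm.pow_right _).eq
      calc ∑ l, C i l * mpow k.val l 0 = (C * mpow k.val) i 0 := (Matrix.mul_apply).symm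
        _ = (mpow k.val * C) i 0 := by rw [h2]
        _ = (mpow k.val *ᵥ fun i => C i 0) i := rfl
    have hv : (fun i => C i 0) = ![C 0 0, C 1 0, C 2 0] := funext fun k => by fin_cases k <;> rfl
    rw [hv] at hCk
    have horth : ∀ i j : Fin 3, ∑ k : Fin 3, C k i * conj (C k j) = if i = j then 1 else 0 := fun i j => by
      have h : Cfsg.hermForm 3 F9 3 (C *ᵥ Pi.single i 1) (C *ᵥ Pi.single j 1)
          = Cfsg.hermForm 3 F9 3 (Pi.single i 1) (Pi.single j 1) := g.2 _ _
      have hc : ∀ x : F9, x ^ 3 = conj x := fun x => by rw [← conj_eq]; ring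
      simp only [Cfsg.hermForm, mulVec_single, MulOpposite.op_one, one_smul, Matrix.col_apply, hc,
        Pi.single_apply] at h
      rw [h]
      split_ifs with hij
      · subst hij; simp [Finset.sum_ite_eq', apply_ite]
      · refine Finset.sum_eq_zero fun k _ => ?_
        split_ifs with e1 e2
        · exact absurd (e1.symm.trans e2) hij
        all_goals simp
    have hdet : C.det = 1 := g.1.2
    rw [Matrix.det_fin_three] at hdet
    obtain ⟨n, hn⟩ := cand_check (C 0 0) (C 1 0) (C 2 0)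
      ⟨by rw [← hCk]; simpa using horth 0 0, by rw [← hCk]; exact fun p => horth p.1 p.2, by rw [← hCk]; exact hdet⟩
    refine Subgroup.mem_zpowers_iff.2 ⟨(n.val : ℤ), ?_⟩
    rw [zpow_natCast]
    refine ext_val ?_
    rw [val_pow, val_elt, ← mpow_eq, ← hC, hCk]
    exact Matrix.ext fun i j => (hn (i, j)).symm
  · rw [Subgroup.zpowers_le]
    exact Subgroup.mem_centralizer_singleton_iff.2 rfl

theorem card_centralizer_elt : Nat.card (Subgroup.centralizer ({elt} : Set U3)) = 7 := by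
  rw [centralizer_elt, Nat.card_zpowers, orderOf_elt]

noncomputable instance : Fintype U3 := Fintype.ofFinite U3

theorem linear_trivial (χ : IrrCharacter U3) (h : charDegree (χ : U3 → ℂ) = 1) : χ = Blocks.trivChar U3 := by
  have h1 : (χ : U3 → ℂ) 1 = 1 := by rw [Blocks.irr_one_eq, h, Nat.cast_one]
  obtain ⟨φ, hφ⟩ := exists_hom_of_apply_one_eq_one (isCharacter_irr χ) h1
  haveI := simple_U3
  rcases (MonoidHom.normal_ker φ).eq_bot_or_eq_top with hk | hk
  · exfalso
    have hinj := (MonoidHom.ker_eq_bot_iff φ).1 hk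
    exact not_comm_U3 ⟨⟨fun a b => hinj (by rw [map_mul, map_mul, mul_comm])⟩⟩
  · refine Subtype.ext (funext fun g => ?_)
    rw [hφ, Blocks.trivChar_apply]
    show ((φ g : ℂˣ) : ℂ) = 1
    rw [MonoidHom.mem_ker.1 (hk ▸ Subgroup.mem_top g : g ∈ φ.ker), Units.val_one]

theorem exists_deg_six_dvd : ∃ χ : IrrCharacter U3, 6 ∣ charDegree (χ : U3 → ℂ) :=
  exists_six_dvd card_U3 orderOf_elt card_centralizer_elt isConj_sq linear_trivial

end CfsgLib.Char.U33Graph
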