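import Cfsg.Agent.Lib.Char.U33Graph.Model
import Cfsg.Agent.Lib.Char.U33Graph.Elem
import Cfsg.Agent.S0188

/-!
# A solvable group with the order and the degree graph of U₃(3)
-/

set_option autoImplicit false

namespace CfsgLib.Char.U33Graph

open Cfsg Chevalley.G2Two

universe u v

/-- The degree set is transported by an isomorphism. -/
theorem charDegrees_congr {A : Type u} {B : Type v} [Group A] [Group B] [Finite A] [Finite B] (e : A ≃* B) :
    charDegrees A = charDegrees B := by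
  cases nonempty_fintype A
  cases nonempty_fintype B
  ext d
  constructor
  · rintro ⟨χ, rfl⟩
    exact ⟨⟨_, IsIrrCharacter.comp_equiv χ.2 e.symm⟩, by simp [charDegree]⟩
  · rintro ⟨χ, rfl⟩
    exact ⟨⟨_, IsIrrCharacter.comp_equiv χ.2 e⟩, by simp [charDegree]⟩

/-- A group of order 6048 with degrees divisible by 6, 14 and 21 has the complete degree graph on 2, 3, 7. -/
theorem graph_eq {A : Type u} [Group A] [Finite A] (hA : Nat.card A = 6048)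
    (h6 : ∃ d ∈ charDegrees A, 6 ∣ d) (h14 : ∃ d ∈ charDegrees A, 14 ∣ d) (h21 : ∃ d ∈ charDegrees A, 21 ∣ d) :
    degreePrimes A = {2, 3, 7} ∧
      ∀ p q, (degreeGraph A).Adj p q ↔ p ≠ q ∧ p ∈ ({2, 3, 7} : Set ℕ) ∧ q ∈ ({2, 3, 7} : Set ℕ) := by
  cases nonempty_fintype A
  have hdiv : ∀ p d, p.Prime → d ∈ charDegrees A → p ∣ d → p ∈ ({2, 3, 7} : Set ℕ) := by
    rintro p _ hp ⟨χ, rfl⟩ hpd
    have h := hpd.trans (hA ▸ Blocks.charDegree_dvd χ)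
    rw [show (6048 : ℕ) = 2 ^ 5 * (3 ^ 3 * 7) from rfl] at h
    rcases (Nat.Prime.dvd_mul hp).1 h with h | h
    · exact Or.inl ((Nat.prime_dvd_prime_iff_eq hp Nat.prime_two).1 (hp.dvd_of_dvd_pow h))
    rcases (Nat.Prime.dvd_mul hp).1 h with h | h
    · exact Or.inr (Or.inl ((Nat.prime_dvd_prime_iff_eq hp Nat.prime_three).1 (hp.dvd_of_dvd_pow h)))
    · exact Or.inr (Or.inr ((Nat.prime_dvd_prime_iff_eq hp (by norm_num)).1 h))
  have hpr : ∀ p ∈ ({2, 3, 7} : Set ℕ), p.Prime := by rintro p (rfl | rfl | rfl) <;> norm_num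
  have hedge : ∀ p q, p ≠ q → p ∈ ({2, 3, 7} : Set ℕ) → q ∈ ({2, 3, 7} : Set ℕ) → ∃ d ∈ charDegrees A, p * q ∣ d := by
    rintro p q hne (rfl | rfl | rfl) (rfl | rfl | rfl) <;> first | exact absurd rfl hne | assumption
  refine ⟨Set.ext fun p => ⟨fun ⟨hp, d, hd, hpd⟩ => hdiv p d hp hd hpd, fun hp => ⟨hpr p hp, ?_⟩⟩, fun p q => ?_⟩
  · obtain ⟨q, hne, hq⟩ : ∃ q, p ≠ q ∧ q ∈ ({2, 3, 7} : Set ℕ) := by
      rcases hp with rfl | rfl | rfl
      · exact ⟨3, by norm_num, Or.inr (Or.inl rfl)⟩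
      · exact ⟨2, by norm_num, Or.inl rfl⟩
      · exact ⟨2, by norm_num, Or.inl rfl⟩
    obtain ⟨d, hd, hdd⟩ := hedge p q hne hp hq
    exact ⟨d, hd, dvd_of_mul_right_dvd hdd⟩
  · refine ⟨fun ⟨hne, hp, hq, d, hd, hdd⟩ => ⟨hne, hdiv p d hp hd (dvd_of_mul_right_dvd hdd),
      hdiv q d hq hd (dvd_of_mul_left_dvd hdd)⟩, fun ⟨hne, hp, hq⟩ => ⟨hne, hpr p hp, hpr q hq, hedge p q hne hp hq⟩⟩

/-- The solvable group. -/
abbrev Model : Type := (F56 × F54) × Multiplicative (ZMod 2)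

theorem model_degrees {d e : ℕ} (hd : d ∈ charDegrees F56) (he : e ∈ charDegrees F54) :
    d * e ∈ charDegrees Model := by
  obtain ⟨χ, rfl⟩ := hd
  obtain ⟨ψ, rfl⟩ := he
  refine ⟨⟨_, Cfsg.Agent.S0188.isIrr_mul (Cfsg.Agent.S0188.isIrr_mul χ.2 ψ.2)
    (Blocks.trivChar (Multiplicative (ZMod 2))).2⟩, ?_⟩
  show ⌊_⌋₊ = _
  simp only [Prod.fst_one, Prod.snd_one, Blocks.trivChar_apply, mul_one, Blocks.irr_one_eq]
  rw [← Nat.cast_mul, Complex.natCast_re, Nat.floor_natCast]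

theorem main {F : Type u} [Field F] [Fintype F] (hF : Fintype.card F = 9) :
    ∃ (H : Type) (_ : Group H) (_ : Fintype H), Group.IsSolvable H ∧ Nat.card H = 6048 ∧
      Cfsg.degreePrimes H = Cfsg.degreePrimes (Cfsg.PSU 3 F 3) ∧
      Cfsg.degreeGraph H = Cfsg.degreeGraph (Cfsg.PSU 3 F 3) := by
  obtain ⟨eK⟩ : Nonempty (F9 ≃+* F) := ⟨FiniteField.ringEquivOfCardEq (F9.card_F9.trans hF.symm)⟩
  have hz : Subgroup.center ↥(Cfsg.SU 3 F 3) = ⊥ := by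
    rw [Subgroup.eq_bot_iff_card, CfsgLib.Classical.card_center_SU (q := 3) (hF.trans (by norm_num)) (by norm_num)]
    rfl
  let e : U3 ≃* Cfsg.PSU 3 F 3 :=
    (suCongr eK 3 3).trans (QuotientGroup.quotientBot.symm.trans (QuotientGroup.quotientMulEquivOfEq hz.symm))
  haveI : Finite (Cfsg.PSU 3 F 3) := Finite.of_equiv U3 e.toEquiv
  have hL : Nat.card (Cfsg.PSU 3 F 3) = 6048 := (Nat.card_congr e.toEquiv).symm.trans card_U3
  have hdeg := charDegrees_congr e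
  have hL6 : ∃ d ∈ charDegrees (Cfsg.PSU 3 F 3), 6 ∣ d := by
    obtain ⟨χ, hχ⟩ := exists_deg_six_dvd
    exact ⟨_, hdeg ▸ ⟨χ, rfl⟩, hχ⟩
  have hL14 : ∃ d ∈ charDegrees (Cfsg.PSU 3 F 3), 14 ∣ d := ⟨14, hdeg ▸ exists_deg_fourteen, dvd_rfl⟩
  have hL21 : ∃ d ∈ charDegrees (Cfsg.PSU 3 F 3), 21 ∣ d := ⟨21, hdeg ▸ exists_deg_twentyone, dvd_rfl⟩
  have h42 : 42 ∈ charDegrees Model := model_degrees (d := 7) (e := 6) F56.exists_deg_seven F54.exists_deg_six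
  have hH : Nat.card Model = 6048 := by
    rw [Nat.card_prod, Nat.card_prod, F56.card, F54.card, Nat.card_congr Multiplicative.toAdd, Nat.card_zmod]
  haveI := F56.solvable
  haveI := F54.solvable
  have hsol : Group.IsSolvable Model := inferInstance
  obtain ⟨hp1, hg1⟩ := graph_eq hH ⟨42, h42, by norm_num⟩ ⟨42, h42, by norm_num⟩ ⟨42, h42, by norm_num⟩
  obtain ⟨hp2, hg2⟩ := graph_eq hL hL6 hL14 hL21
  refine ⟨Model, inferInstance, inferInstance, hsol, hH, hp1.trans hp2.symm, ?_⟩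
  ext p q
  rw [hg1, hg2]

end CfsgLib.Char.U33Graph
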