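import Cfsg.Agent.Lib.Char.TwoDegrees.Basic
import Cfsg.Agent.Lib.Char.Induced
import Cfsg.Agent.Lib.Char.Linear
import Cfsg.Agent.Lib.Blocks.Basic
import Mathlib.RingTheory.RootsOfUnity.Complex

/-!
# A solvable group of order 6048 with complete degree graph on 2, 3, 7

The product of a Frobenius group of order 56, a group of order 54 with an irreducible character
of degree 6 and a group of order 2.
-/

set_option autoImplicit false

open scoped ComplexConjugate

namespace CfsgLib.Char.U33Graph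

open Cfsg

/-- The field of order eight as an additive group. -/
abbrev V8 : Type := ZMod 2 × ZMod 2 × ZMod 2

/-- Multiplication by a generator of the multiplicative group of the field of order eight. -/
def act1 (v : V8) : V8 := (v.2.2, v.1 + v.2.2, v.2.1)

/-- Multiplication by its powers. -/
def act (k : ZMod 7) (v : V8) : V8 := act1^[k.val] v

theorem act_add : ∀ (k l : ZMod 7) (v : V8), act (k + l) v = act k (act l v) := by decide +kernel
theorem act_lin : ∀ (k : ZMod 7) (v w : V8), act k (v + w) = act k v + act k w := by decide +kernel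
theorem act_zero : ∀ v : V8, act 0 v = v := by decide +kernel
theorem act_of_zero : ∀ k : ZMod 7, act k 0 = 0 := by decide +kernel

/-- The Frobenius group of order 56. -/
@[ext] structure F56 where
  v : V8
  k : ZMod 7

namespace F56

instance : Mul F56 := ⟨fun x y => ⟨x.v + act x.k y.v, x.k + y.k⟩⟩
instance : One F56 := ⟨⟨0, 0⟩⟩
instance : Inv F56 := ⟨fun x => ⟨-act (-x.k) x.v, -x.k⟩⟩

theorem mul_v (x y : F56) : (x * y).v = x.v + act x.k y.v := rfl
theorem mul_k (x y : F56) : (x * y).k = x.k + y.k := rfl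
theorem one_v : (1 : F56).v = 0 := rfl
theorem one_k : (1 : F56).k = 0 := rfl
theorem inv_v (x : F56) : x⁻¹.v = -act (-x.k) x.v := rfl
theorem inv_k (x : F56) : x⁻¹.k = -x.k := rfl

instance : Group F56 where
  mul_assoc x y z := by
    refine F56.ext ?_ ?_
    · simp only [mul_v, mul_k, act_lin, ← act_add, add_assoc]
    · simp only [mul_k, add_assoc]
  one_mul x := by refine F56.ext ?_ ?_ <;> simp [mul_v, mul_k, one_v, one_k, act_zero]
  mul_one x := by refine F56.ext ?_ ?_ <;> simp [mul_v, mul_k, one_v, one_k, act_of_zero]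
  inv_mul_cancel x := by
    refine F56.ext ?_ ?_
    · simp only [mul_v, inv_v, inv_k, one_v, neg_add_cancel]
    · simp only [mul_k, inv_k, one_k, neg_add_cancel]

/-- The coordinates. -/
def equivProd : F56 ≃ V8 × ZMod 7 := ⟨fun x => (x.v, x.k), fun p => ⟨p.1, p.2⟩, fun _ => rfl, fun _ => rfl⟩

instance : Fintype F56 := Fintype.ofEquiv _ equivProd.symm

theorem card : Nat.card F56 = 56 := by
  rw [Nat.card_congr equivProd, Nat.card_prod, Nat.card_prod, Nat.card_prod, Nat.card_zmod, Nat.card_zmod]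

/-- The projection to the cyclic quotient. -/
def toQuot : F56 →* Multiplicative (ZMod 7) where
  toFun x := Multiplicative.ofAdd x.k
  map_one' := rfl
  map_mul' _ _ := rfl

theorem mem_ker {x : F56} : x ∈ toQuot.ker ↔ x.k = 0 := by
  rw [MonoidHom.mem_ker]; rfl

theorem ker_comm : ∀ a ∈ toQuot.ker, ∀ b ∈ toQuot.ker, a * b = b * a := fun a ha b hb => by
  rw [mem_ker] at ha hb
  refine F56.ext ?_ ?_
  · simp only [mul_v, ha, hb, act_zero, add_comm]
  · simp only [mul_k, ha, hb]

theorem solvable : Group.IsSolvable F56 := by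
  haveI : Group.IsSolvable toQuot.ker :=
    Group.isSolvable_of_comm fun a b => Subtype.ext (ker_comm a a.2 b b.2)
  exact solvable_of_ker_le_range toQuot.ker.subtype toQuot (by rw [Subgroup.range_subtype])

theorem index_ker : toQuot.ker.index = 7 := by
  have hs : Function.Surjective toQuot := fun q => ⟨⟨0, q.toAdd⟩, rfl⟩
  rw [Subgroup.index_ker, MonoidHom.range_eq_top.2 hs, Subgroup.card_top]
  simp

theorem exists_deg_seven : ∃ χ : IrrCharacter F56, charDegree (χ : F56 → ℂ) = 7 := by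
  classical
  by_contra hno
  push Not at hno
  set c : F56 := ⟨(1, 0, 0), 0⟩ * ⟨0, 1⟩ * (⟨(1, 0, 0), 0⟩ : F56)⁻¹ * (⟨0, 1⟩ : F56)⁻¹ with hc
  have hc1 : c ≠ 1 := fun h => by
    have h' := congrArg F56.v h
    revert h'
    rw [hc]
    decide +kernel
  have hlin : ∀ χ : IrrCharacter F56, (χ : F56 → ℂ) 1 = 1 ∧ (χ : F56 → ℂ) c = 1 := fun χ => by
    obtain ⟨d, hd, hdi⟩ := TwoDegrees.exists_degree_dvd_index ker_comm χ.2
    rw [index_ker, Nat.dvd_prime (by norm_num)] at hdi
    have hd1 : d = 1 := hdi.resolve_right fun h => hno χ (by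
      show ⌊((χ : F56 → ℂ) 1).re⌋₊ = 7
      rw [hd, h]; norm_num)
    subst hd1
    rw [Nat.cast_one] at hd
    obtain ⟨φ, hφ⟩ := exists_hom_of_apply_one_eq_one (isCharacter_irr χ) hd
    refine ⟨hd, ?_⟩
    rw [hφ, hc]
    simp [map_mul, mul_comm]
  have h := sum_irr_mul_conj c (1 : F56)
  rw [if_neg (by rwa [isConj_one_left]), Finset.sum_congr rfl fun χ _ => by
    rw [(hlin χ).1, (hlin χ).2, map_one, mul_one], Finset.sum_const, nsmul_eq_mul, mul_one,
    Nat.cast_eq_zero, Finset.card_eq_zero, Finset.univ_eq_empty_iff] at h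
  exact h.false (Blocks.trivChar F56)

end F56

/-- The group of order 54: a sign and an upper unitriangular matrix. -/
@[ext] structure F54 where
  e : ℤˣ
  a : ZMod 3
  b : ZMod 3
  c : ZMod 3

namespace F54

/-- The sign in `ZMod 3`. -/
def sg (e : ℤˣ) : ZMod 3 := ((e : ℤ) : ZMod 3)

theorem sg_mul (e f : ℤˣ) : sg (e * f) = sg e * sg f := by simp [sg]
theorem sg_one : sg 1 = 1 := by simp [sg]
theorem sg_sq (e : ℤˣ) : sg e * sg e = 1 := by
  rw [← sg_mul, Int.units_mul_self, sg_one]

instance : Mul F54 := ⟨fun x y => ⟨x.e * y.e, sg x.e * y.a + x.a, y.b + x.b, sg x.e * y.c + x.a * y.b + x.c⟩⟩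
instance : One F54 := ⟨⟨1, 0, 0, 0⟩⟩
instance : Inv F54 := ⟨fun x => ⟨x.e, -(sg x.e * x.a), -x.b, sg x.e * (x.a * x.b - x.c)⟩⟩

theorem mul_def (x y : F54) :
    x * y = ⟨x.e * y.e, sg x.e * y.a + x.a, y.b + x.b, sg x.e * y.c + x.a * y.b + x.c⟩ := rfl
theorem one_def : (1 : F54) = ⟨1, 0, 0, 0⟩ := rfl
theorem inv_def (x : F54) : x⁻¹ = ⟨x.e, -(sg x.e * x.a), -x.b, sg x.e * (x.a * x.b - x.c)⟩ := rfl

instance : Group F54 where
  mul_assoc x y z := by
    simp only [mul_def, sg_mul]
    refine F54.ext ?_ ?_ ?_ ?_ <;> simp only [mul_assoc] <;> ring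
  one_mul x := by simp only [mul_def, one_def, sg_one]; refine F54.ext ?_ ?_ ?_ ?_ <;> simp
  mul_one x := by simp only [mul_def, one_def]; refine F54.ext ?_ ?_ ?_ ?_ <;> simp
  inv_mul_cancel x := by
    simp only [mul_def, inv_def, one_def]
    refine F54.ext (Int.units_mul_self _) ?_ ?_ ?_ <;> simp only [] <;> ring

/-- The coordinates. -/
def equivProd : F54 ≃ ℤˣ × ZMod 3 × ZMod 3 × ZMod 3 :=
  ⟨fun x => (x.e, x.a, x.b, x.c), fun p => ⟨p.1, p.2.1, p.2.2.1, p.2.2.2⟩, fun _ => rfl, fun _ => rfl⟩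

instance : Fintype F54 := Fintype.ofEquiv _ equivProd.symm

theorem card : Nat.card F54 = 54 := by
  rw [Nat.card_congr equivProd, Nat.card_prod, Nat.card_prod, Nat.card_prod, Nat.card_zmod, Nat.card_eq_fintype_card]
  rfl

/-- The projection to the abelian quotient by the kernel `e = 1, a = 0`. -/
def toSign : F54 →* ℤˣ where
  toFun x := x.e
  map_one' := rfl
  map_mul' _ _ := rfl

theorem mem_ker {x : F54} : x ∈ toSign.ker ↔ x.e = 1 := MonoidHom.mem_ker

theorem solvable : Group.IsSolvable F54 := by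
  haveI : Group.IsSolvable toSign.ker := by
    let q : toSign.ker →* Multiplicative (ZMod 3 × ZMod 3) :=
      { toFun := fun x => Multiplicative.ofAdd (x.1.a, x.1.b)
        map_one' := rfl
        map_mul' := fun x y => by
          have hx := mem_ker.1 x.2
          apply Multiplicative.toAdd.injective
          simp [mul_def, hx, sg_one, add_comm] }
    haveI : Group.IsSolvable q.ker := Group.isSolvable_of_comm fun x y => by
      have hxa : x.1.1.a = 0 := congrArg (fun p : Multiplicative (ZMod 3 × ZMod 3) => p.toAdd.1) x.2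
      have hxb : x.1.1.b = 0 := congrArg (fun p : Multiplicative (ZMod 3 × ZMod 3) => p.toAdd.2) x.2
      have hya : y.1.1.a = 0 := congrArg (fun p : Multiplicative (ZMod 3 × ZMod 3) => p.toAdd.1) y.2
      have hyb : y.1.1.b = 0 := congrArg (fun p : Multiplicative (ZMod 3 × ZMod 3) => p.toAdd.2) y.2
      have hx := mem_ker.1 x.1.2
      have hy := mem_ker.1 y.1.2
      refine Subtype.ext (Subtype.ext ?_)
      simp [mul_def, hx, hy, hxa, hxb, hya, hyb, sg_one, add_comm]
    exact solvable_of_ker_le_range q.ker.subtype q (by rw [Subgroup.range_subtype])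
  exact solvable_of_ker_le_range toSign.ker.subtype toSign (by rw [Subgroup.range_subtype])

/-- The abelian normal subgroup `e = 1, a = 0`. -/
def A : Subgroup F54 where
  carrier := {x | x.e = 1 ∧ x.a = 0}
  one_mem' := ⟨rfl, rfl⟩
  mul_mem' := by
    rintro x y ⟨h1, h2⟩ ⟨h3, h4⟩
    exact ⟨by simp [mul_def, h1, h3], by simp [mul_def, h2, h4]⟩
  inv_mem' := by
    rintro x ⟨h1, h2⟩
    exact ⟨by simp [inv_def, h1], by simp [inv_def, h2]⟩

theorem mem_A {x : F54} : x ∈ A ↔ x.e = 1 ∧ x.a = 0 := Iff.rfl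

/-- A primitive cube root of unity. -/
noncomputable def ω : ℂ := Complex.exp (2 * Real.pi * Complex.I / 3)

theorem ω_prim : IsPrimitiveRoot ω 3 := by
  have h := Complex.isPrimitiveRoot_exp 3 (by norm_num)
  norm_num at h
  exact h

/-- The additive character of `ZMod 3`. -/
noncomputable def e3 (t : ZMod 3) : ℂ := ω ^ t.val

theorem e3_add (s t : ZMod 3) : e3 (s + t) = e3 s * e3 t := by
  rw [e3, e3, e3, ← pow_add, ZMod.val_add]
  exact (pow_eq_pow_mod (s.val + t.val) ω_prim.pow_eq_one).symm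

theorem sum3 {R : Type*} [AddCommMonoid R] (f : ZMod 3 → R) : ∑ t : ZMod 3, f t = f 0 + f 1 + f 2 :=
  Fin.sum_univ_three f

theorem e3_sum : e3 0 + e3 1 + e3 2 = 0 := by
  have h := ω_prim.geom_sum_eq_zero (by norm_num : 1 < 3)
  simp only [Finset.sum_range_succ, Finset.sum_range_zero, zero_add] at h
  exact h

theorem e3_line {b : ZMod 3} (hb : b ≠ 0) (c : ZMod 3) : ∑ t : ZMod 3, e3 (c - t * b) = 0 := by
  haveI : Fact (Nat.Prime 3) := ⟨by norm_num⟩
  rw [Fintype.sum_equiv ((Equiv.mulRight₀ b hb).trans (Equiv.subLeft c)) (fun t => e3 (c - t * b)) e3 fun t => rfl,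
    sum3]
  exact e3_sum

/-- The linear character of `A`. -/
noncomputable def lam : A →* ℂ where
  toFun x := e3 x.1.c
  map_one' := by simp [e3, one_def]
  map_mul' x y := by
    rw [← e3_add]
    simp [mul_def, (mem_A.1 x.2).1, (mem_A.1 x.2).2, sg_one, add_comm]

/-- The induced character in closed form. -/
noncomputable def psi (g : F54) : ℂ :=
  if g.e = 1 ∧ g.a = 0 then if g.b = 0 then 3 * (e3 g.c + e3 (-g.c)) else 0 else 0

theorem conj_formula (g x : F54) (hg : g.e = 1 ∧ g.a = 0) :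
    x⁻¹ * g * x = ⟨1, 0, g.b, sg x.e * (g.c - x.a * g.b)⟩ := by
  rw [mul_assoc, inv_mul_eq_iff_eq_mul]
  simp only [mul_def, hg.1, hg.2, sg_one, one_mul, mul_one, zero_mul, mul_zero]
  refine F54.ext rfl ?_ ?_ ?_ <;> simp only [] <;>
    first | ring1 | linear_combination (g.c - x.a * g.b) * sg_sq x.e |
      linear_combination (x.a * g.b - g.c) * sg_sq x.e

theorem sum_units {R : Type*} [AddCommMonoid R] (f : ℤˣ → R) : ∑ e : ℤˣ, f e = f 1 + f (-1) := by
  rw [show (Finset.univ : Finset ℤˣ) = {1, -1} from by decide, Finset.sum_pair (by decide)]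

theorem card_A : Nat.card A = 9 := by
  have e : A ≃ ZMod 3 × ZMod 3 :=
    { toFun := fun x => (x.1.b, x.1.c)
      invFun := fun p => ⟨⟨1, 0, p.1, p.2⟩, rfl, rfl⟩
      left_inv := fun x => Subtype.ext (F54.ext x.2.1.symm x.2.2.symm rfl rfl)
      right_inv := fun _ => rfl }
  rw [Nat.card_congr e, Nat.card_prod, Nat.card_zmod]

theorem indFun_lam : indFun A (fun x : A => lam x) = psi := by
  classical
  funext g
  rw [indFun, card_A, psi]
  by_cases hg : g.e = 1 ∧ g.a = 0
  · rw [if_pos hg]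
    have hterm : ∀ x : F54, extendByZero A (fun x : A => lam x) (x⁻¹ * g * x) = e3 (sg x.e * (g.c - x.a * g.b)) := by
      intro x
      rw [conj_formula g x hg, extendByZero_apply_mem A _ (⟨rfl, rfl⟩ : (⟨1, 0, g.b, _⟩ : F54) ∈ A)]
      rfl
    rw [Finset.sum_congr rfl fun x _ => hterm x,
      ← equivProd.symm.sum_comp (fun x : F54 => e3 (sg x.e * (g.c - x.a * g.b))), Fintype.sum_prod_type]
    simp only [Fintype.sum_prod_type, equivProd, Equiv.coe_fn_symm_mk, Finset.sum_const, Finset.card_univ,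
      ZMod.card, nsmul_eq_mul, sum_units]
    rw [show sg 1 = 1 from sg_one, show sg (-1) = -1 by simp [sg]]
    simp only [one_mul, neg_one_mul, Fintype.card_prod, ZMod.card, Finset.sum_add_distrib, ← Finset.mul_sum]
    split_ifs with hb
    · simp [hb]; ring
    · rw [e3_line hb, show (∑ t : ZMod 3, e3 (-(g.c - t * g.b))) = 0 by
        rw [← e3_line (neg_ne_zero.2 hb) (-g.c)]
        exact Finset.sum_congr rfl fun t _ => congrArg e3 (by ring)]
      simp
  · rw [if_neg hg, Finset.sum_eq_zero fun x _ => ?_, mul_zero]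
    refine extendByZero_apply_notMem A _ fun hmem => hg ?_
    have h1 : g = (x⁻¹)⁻¹ * (x⁻¹ * g * x) * x⁻¹ := by group
    rw [h1, conj_formula _ _ hmem]
    exact ⟨rfl, rfl⟩

theorem exists_deg_six : ∃ χ : IrrCharacter F54, charDegree (χ : F54 → ℂ) = 6 := by
  classical
  let l : A →* ℂˣ := lam.toHomUnits
  have hl : (fun x : A => ((l x : ℂˣ) : ℂ)) = fun x : A => lam x := funext fun x => rfl
  have hchar : IsCharacter F54 psi := indFun_lam ▸ hl ▸ Char.IsCharacter.indFun A (Char.isCharacter_hom l)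
  have hpsi : IsIrrCharacter F54 psi := by
    refine Char.IsCharacter.isIrrCharacter_of_norm_one hchar ?_
    rw [Cfsg.classInner, card, ← equivProd.symm.sum_comp]
    simp only [Fintype.sum_prod_type, equivProd, Equiv.coe_fn_symm_mk, psi, sum_units, sum3]
    have e0 : e3 0 = 1 := by simp [e3]
    have e1 : e3 1 + e3 2 = -1 := by linear_combination e3_sum - e0
    simp [show -(1 : ZMod 3) = 2 from rfl, show -(2 : ZMod 3) = 1 from rfl,
      show ((-1 : ℤˣ) = 1) = False from eq_false (by decide), e0, Complex.conj_ofNat,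
      show (1 : ZMod 3) ≠ 0 by decide, show (2 : ZMod 3) ≠ 0 by decide, e1, add_comm (e3 2) (e3 1)]
    norm_num
  refine ⟨⟨psi, hpsi⟩, ?_⟩
  show ⌊(psi 1).re⌋₊ = 6
  rw [psi, one_def]
  norm_num [e3]

end F54

end CfsgLib.Char.U33Graph
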